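import Groth.Agent.Lib.SnapLead
import Groth.Agent.Nakai.Coeff

/-!
# The degree of the Hilbert polynomial of a coherent module
-/

set_option autoImplicit false
set_option linter.style.haveILetI false
set_option linter.unusedSectionVars false
set_option backward.isDefEq.respectTransparency false
set_option backward.isDefEq.respectTransparency.types false
set_option maxHeartbeats 600000

universe u

open CategoryTheory CategoryTheory.Limits AlgebraicGeometry TopologicalSpace Opposite
open Groth.Agent.H23 Groth.Agent.H23.PicMul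
open scoped Polynomial

noncomputable section

namespace Groth.Agent.HilbDeg16

open Groth.Agent

attribute [local instance] PicMul.clMonoid

/-- One variable polynomials of degree below `d`. -/
theorem exists_poly_of_isMPolyLt {d : ℕ} {f : (Fin 1 → ℕ) → ℚ} (h : Snapper.IsMPolyLt d f) :
    ∃ Q : ℚ[X], Q.coeff d = 0 ∧ Q.natDegree ≤ d ∧ ∀ m : ℕ, f (fun _ => m) = Q.eval (m : ℚ) := by
  classical
  obtain ⟨Q, hQ, hf⟩ := h
  have hdeg : (MvPolynomial.aeval (fun _ : Fin 1 => (Polynomial.X : ℚ[X])) Q).degree < (d : WithBot ℕ) := by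
    rw [Q.as_sum, map_sum]
    refine lt_of_le_of_lt (Polynomial.degree_sum_le _ _) ((Finset.sup_lt_iff (WithBot.bot_lt_coe d)).2 fun α hα => ?_)
    rw [MvPolynomial.aeval_monomial]
    refine lt_of_le_of_lt (Polynomial.degree_mul_le _ _) ?_
    have h1 : (algebraMap ℚ ℚ[X] (Q.coeff α)).degree ≤ 0 := Polynomial.degree_C_le
    have h2 : (α.prod fun _ e => (Polynomial.X : ℚ[X]) ^ e).degree ≤ ((α.sum fun _ e => e : ℕ) : WithBot ℕ) := by
      rw [Finsupp.prod, Finset.prod_pow_eq_pow_sum]
      exact (Polynomial.degree_X_pow_le _).trans (le_of_eq rfl)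
    refine lt_of_le_of_lt (add_le_add h1 h2) ?_
    rw [zero_add]
    exact WithBot.coe_lt_coe.2 (hQ α hα)
  refine ⟨_, Polynomial.coeff_eq_zero_of_degree_lt hdeg, Polynomial.natDegree_le_of_degree_le hdeg.le, fun m => ?_⟩
  rw [hf]
  clear hdeg hf hQ
  induction Q using MvPolynomial.induction_on with
  | C a => simp
  | add p q hp hq => simp [hp, hq]
  | mul_X p i hp => simp [hp]

variable (k : Type u) [Field k] {X : Scheme.{u}} [X.Over (Spec (CommRingCat.of k))]
  [IsProper (X ↘ Spec (CommRingCat.of k))]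

/-- The Hilbert polynomial of a nonzero coherent module has degree the dimension of the support. -/
theorem natDegree_eq {L : X.Modules} (hL : CohB1.IsAmple L) {F : X.Modules} (hF : Coh.IsCoh F)
    (hne : (CohB1.support F).Nonempty) {N : ℕ} (hX : topologicalKrullDim X ≤ N) (R : ℚ[X])
    (hR : ∀ m : ℕ, (Curv2.euler k X (CohB1.tensorMod F (CohB1.tensorPow L m)) : ℚ) = R.eval (m : ℚ)) :
    topologicalKrullDim ↥(CohB1.support F) = (R.natDegree : WithBot ℕ∞) := by
  classical
  haveI := CurveCohLib.isNoetherian_of_proper (k := k) (X := X)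
  let π := X ↘ Spec (CommRingCat.of k)
  have hcl : IsClosed (CohB1.support F) := QCoh.isClosed_support_of_isFT hF.1 hF.2
  have hsup := VarDim.topologicalKrullDim_set_eq_iSup_deg π hcl
  -- the dimension is a natural number attained at a point
  obtain ⟨d, ⟨η, hη, hηd⟩, hmax⟩ : ∃ d : ℕ, (∃ η ∈ CohB1.support F, VarDim.deg π η = d) ∧
      ∀ z ∈ CohB1.support F, VarDim.deg π z ≤ d := by
    have hN : ∀ z : X, VarDim.deg π z ≤ N := fun z => by
      have h : ((VarDim.deg π z : ℕ∞) : WithBot ℕ∞) ≤ topologicalKrullDim X := by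
        rw [VarDim.topologicalKrullDim_eq_iSup_deg π]
        exact le_iSup (fun x => ((VarDim.deg π x : ℕ∞) : WithBot ℕ∞)) z
      exact ENat.natCast_le_natCast.1 (WithBot.coe_le_coe.1 (h.trans hX))
    let S := (Finset.range (N + 1)).filter fun i => ∃ z ∈ CohB1.support F, VarDim.deg π z = i
    obtain ⟨z₀, hz₀⟩ := hne
    have hS : S.Nonempty := ⟨_, Finset.mem_filter.2 ⟨Finset.mem_range.2 (Nat.lt_succ_of_le (hN z₀)), z₀, hz₀, rfl⟩⟩
    refine ⟨S.max' hS, (Finset.mem_filter.1 (S.max'_mem hS)).2, fun z hz => ?_⟩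
    exact S.le_max' _ (Finset.mem_filter.2 ⟨Finset.mem_range.2 (Nat.lt_succ_of_le (hN z)), z, hz, rfl⟩)
  have hd : topologicalKrullDim ↥(CohB1.support F) = (d : WithBot ℕ∞) := by
    rw [hsup]
    refine le_antisymm (iSup_le fun z => ?_) (le_iSup_of_le ⟨η, hη⟩ (by rw [hηd]; exact le_rfl))
    exact WithBot.coe_le_coe.2 (ENat.natCast_le_natCast.2 (hmax z.1 z.2))
  have hclos : ∀ ξ : X, topologicalKrullDim ↥(closure ({ξ} : Set X)) = (d : WithBot ℕ∞) ↔ VarDim.deg π ξ = d :=
    fun ξ => by
      rw [VarDim.topologicalKrullDim_closure_singleton π]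
      exact ⟨fun h => by exact_mod_cast h, fun h => by rw [h]; rfl⟩
  -- the positive contributions
  have hterm : ∀ ξ : X, ∃ Q : ℚ[X], VarDim.deg π ξ = d → Q.natDegree ≤ d ∧ 0 < Q.coeff d ∧
      ∀ m : ℕ, SnapLead.term (k := k) (fun _ : Fin 1 => L) ξ (fun _ => m) = Q.eval (m : ℚ) := by
    intro ξ
    by_cases hξ : VarDim.deg π ξ = d
    swap
    · exact ⟨0, fun h => absurd h hξ⟩
    let D : Closeds X := ⟨closure {ξ}, isClosed_closure⟩
    let J := Scheme.IdealSheafData.vanishingIdeal D
    haveI := H23.RedSub.isReduced_vanishingIdeal D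
    have hrange : Set.range J.subschemeι = closure {ξ} := AmpleVan.FiniteSurj.range_vanishingIdeal D
    haveI : IrreducibleSpace J.subscheme := by
      haveI := Subtype.irreducibleSpace (hrange ▸ isIrreducible_singleton.closure : IsIrreducible (Set.range J.subschemeι))
      exact J.subschemeι.isEmbedding.toHomeomorph.irreducibleSpace_iff.2 inferInstance
    haveI : IsIntegral J.subscheme := isIntegral_of_irreducibleSpace_of_isReduced _
    have hJd : topologicalKrullDim (J.support : Set X) = d := by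
      rw [← Scheme.IdealSheafData.range_subschemeι, hrange]
      exact (hclos ξ).2 hξ
    obtain ⟨Q, hQd, hQm⟩ := Nakai.exists_poly k hL.1 J hJd
    letI : J.subscheme.Over (Spec (CommRingCat.of k)) := ⟨J.subschemeι ≫ π⟩
    haveI : IsProper (J.subscheme ↘ Spec (CommRingCat.of k)) :=
      inferInstanceAs (IsProper (J.subschemeι ≫ π))
    refine ⟨Q, fun _ => ⟨hQd, ?_, fun m => ?_⟩⟩
    · have h1 := Nakai.coeff_pos hL J d hJd (Nakai.sumSubst d Q) fun n => by
        rw [Nakai.euler_tensorPows (k := k), hQm, Nakai.eval_sumSubst]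
      obtain ⟨c, hc, e⟩ := Nakai.coeff_sumSubst d Q
      rw [e] at h1
      exact pos_of_mul_pos_right h1 hc.le
    · refine Eq.trans ?_ ((Nakai.chi_eq k hL.1 J m).symm.trans (hQm m))
      exact congrArg Int.cast (CurveCohLib.euler_congr (k := k) (CurveTensor.structureTensorIso _))
  choose Q hQ using hterm
  -- only finitely many points contribute
  have hle := SnapLead.cohLe_of_dim k hF hd.le
  let len : X → ℕ := fun ξ => (Module.length (X.presheaf.stalk ξ) (F.presheaf.stalk ξ)).toNat
  have hfin : {ξ : X | VarDim.deg π ξ = d ∧ len ξ ≠ 0}.Finite := by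
    choose U hxU hU using CycleClassK.lfPts_sheafFun (SnapLead.isDimFun k) hle
    haveI : CompactSpace X := QuasiCompact.compactSpace_of_compactSpace π
    obtain ⟨t, ht⟩ := isCompact_univ.elim_finite_subcover (fun x => (U x : Set X)) (fun x => (U x).isOpen)
      fun x _ => Set.mem_iUnion.2 ⟨x, hxU x⟩
    refine (t.finite_toSet.biUnion fun x _ => hU x).subset fun y hy => ?_
    obtain ⟨x, hxt, hyx⟩ := Set.mem_iUnion₂.1 (ht (Set.mem_univ y))
    refine Set.mem_iUnion₂.2 ⟨x, hxt, ?_, hyx⟩
    have hdy : SnapLead.δ k y = d := by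
      have h := SnapLead.dim_closure k y
      rw [(hclos y).2 hy.1] at h
      simp only [SnapLead.δ]
      exact_mod_cast h.symm
    show Cyc.sheafFun (SnapLead.δ k) d F y ≠ 0
    rw [Cyc.sheafFun, if_pos hdy]
    exact Nat.cast_ne_zero.2 hy.2
  let T := hfin.toFinset
  have hηT : η ∈ T := by
    refine hfin.mem_toFinset.2 ⟨hηd, fun h0 => ?_⟩
    haveI : Nontrivial (F.presheaf.stalk η) := not_subsingleton_iff_nontrivial.1 hη
    have hδ : SnapLead.δ k η = d := by
      have h := SnapLead.dim_closure k η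
      rw [(hclos η).2 hηd] at h
      simp only [SnapLead.δ]
      exact_mod_cast h.symm
    rcases ENat.toNat_eq_zero.1 h0 with h | h
    · exact (Module.length_pos (R := X.presheaf.stalk η) (M := F.presheaf.stalk η)).ne' h
    · exact (CycleClassK.length_lt_top (SnapLead.isDimFun k) hle hδ).ne h
  -- comparison
  obtain ⟨E, hEd, hEn, hE⟩ := exists_poly_of_isMPolyLt
    (SnapLead.main k hF hd.le (L := fun _ : Fin 1 => L) fun _ => hL.1)
  let S : ℚ[X] := ∑ ξ ∈ T, Polynomial.C (len ξ : ℚ) * Q ξ
  have heq : R = E + S := by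
    refine Polynomial.eq_of_infinite_eval_eq _ _ ((Set.infinite_range_of_injective Nat.cast_injective).mono ?_)
    rintro _ ⟨m, rfl⟩
    show R.eval (m : ℚ) = (E + S).eval (m : ℚ)
    rw [Polynomial.eval_add, ← hE m, ← hR m, Polynomial.eval_finsetSum]
    rw [finsum_eq_sum_of_support_subset _ (s := T) ?_]
    · have hsum : ∀ ξ ∈ T, (Polynomial.C (len ξ : ℚ) * Q ξ).eval (m : ℚ) =
          (if topologicalKrullDim (closure ({ξ} : Set X)) = (d : WithBot ℕ∞) then
            ((Module.length (X.presheaf.stalk ξ) (F.presheaf.stalk ξ)).toNat : ℚ) *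
              SnapLead.term (k := k) (fun _ : Fin 1 => L) ξ (fun _ => m) else 0) := fun ξ hξ => by
        have h1 := (hfin.mem_toFinset.1 hξ).1
        rw [if_pos ((hclos ξ).2 h1), Polynomial.eval_mul, Polynomial.eval_C, (hQ ξ h1).2.2 m]
      rw [Finset.sum_congr rfl hsum]
      exact (sub_add_cancel _ _).symm
    · intro ξ hξ
      simp only [Function.mem_support, ne_eq, ite_eq_right_iff, not_forall] at hξ
      obtain ⟨h1, h2⟩ := hξ
      refine hfin.mem_toFinset.2 ⟨(hclos ξ).1 h1, fun h0 => h2 ?_⟩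
      simp only [len] at h0
      simp [h0]
  have hSd : 0 < S.coeff d := by
    rw [Polynomial.finsetSum_coeff]
    refine Finset.sum_pos (fun ξ hξ => ?_) ⟨η, hηT⟩
    rw [Polynomial.coeff_C_mul]
    exact mul_pos (Nat.cast_pos.2 (Nat.pos_of_ne_zero (hfin.mem_toFinset.1 hξ).2)) (hQ ξ (hfin.mem_toFinset.1 hξ).1).2.1
  have hSn : S.natDegree ≤ d := Polynomial.natDegree_sum_le_of_forall_le _ _ fun ξ hξ =>
    (Polynomial.natDegree_C_mul_le _ _).trans (hQ ξ (hfin.mem_toFinset.1 hξ).1).1
  have hc : R.coeff d ≠ 0 := by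
    rw [heq, Polynomial.coeff_add, hEd, zero_add]
    exact hSd.ne'
  rw [hd, Polynomial.natDegree_eq_of_le_of_coeff_ne_zero
    (heq ▸ (Polynomial.natDegree_add_le _ _).trans (max_le hEn hSn)) hc]

end Groth.Agent.HilbDeg16
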